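import Cfsg.Agent.Lib.CosetTable.Y555Levels.Data
import Cfsg.Agent.Lib.CosetTable.Chain
import Cfsg.Agent.Lib.CosetTable.Y555A322.Data

/-! Generated checks for the base of `Y555A322`. -/

set_option Elab.async false
set_option maxRecDepth 10000

namespace Cfsg.Agent.Lib.CosetTable.Y555Levels

open Cfsg.Agent.Lib.CosetTable

theorem lev0_run1 : rangeAll (lev0.reachOK Y555A322.tab ws0) 256 0 = true := by decide +kernel

theorem lev0_run2 : rangeAll (lev0.reachOK Y555A322.tab ws0) 256 256 = true := by decide +kernel

theorem lev0_run3 : rangeAll (lev0.reachOK Y555A322.tab ws0) 216 512 = true := by decide +kernel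

theorem lev0_ok : Below (lev0.reachOK Y555A322.tab ws0) lev0.m :=
  (((Below.zero _).step (b := 256) lev0_run1 rfl).step (b := 512) lev0_run2 rfl).step (b := 728) lev0_run3 rfl

theorem lev1_run1 : rangeAll (lev1.reachOK Y555A322.tab ws1) 1 0 = true := by decide +kernel

theorem lev1_ok : Below (lev1.reachOK Y555A322.tab ws1) lev1.m :=
  (Below.zero _).step (b := 1) lev1_run1 rfl

theorem lev2_run1 : rangeAll (lev2.reachOK Y555A322.tab ws2) 243 0 = true := by decide +kernel

theorem lev2_ok : Below (lev2.reachOK Y555A322.tab ws2) lev2.m :=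
  (Below.zero _).step (b := 243) lev2_run1 rfl

theorem lev3_run1 : rangeAll (lev3.reachOK Y555A322.tab ws3) 72 0 = true := by decide +kernel

theorem lev3_ok : Below (lev3.reachOK Y555A322.tab ws3) lev3.m :=
  (Below.zero _).step (b := 72) lev3_run1 rfl

theorem lev4_run1 : rangeAll (lev4.reachOK Y555A322.tab ws4) 20 0 = true := by decide +kernel

theorem lev4_ok : Below (lev4.reachOK Y555A322.tab ws4) lev4.m :=
  (Below.zero _).step (b := 20) lev4_run1 rfl

theorem lev5_run1 : rangeAll (lev5.reachOK Y555A322.tab ws5) 9 0 = true := by decide +kernel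

theorem lev5_ok : Below (lev5.reachOK Y555A322.tab ws5) lev5.m :=
  (Below.zero _).step (b := 9) lev5_run1 rfl

theorem lev6_run1 : rangeAll (lev6.reachOK Y555A322.tab ws6) 2 0 = true := by decide +kernel

theorem lev6_ok : Below (lev6.reachOK Y555A322.tab ws6) lev6.m :=
  (Below.zero _).step (b := 2) lev6_run1 rfl

theorem lev7_run1 : rangeAll (lev7.reachOK Y555A322.tab ws7) 2 0 = true := by decide +kernel

theorem lev7_ok : Below (lev7.reachOK Y555A322.tab ws7) lev7.m :=
  (Below.zero _).step (b := 2) lev7_run1 rfl

theorem levels_ok : LevelsOK Y555A322.cert Y555A322.tab levels :=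
  ⟨⟨by decide +kernel, lev0_ok, by decide +kernel, by decide +kernel⟩,
   ⟨by decide +kernel, lev1_ok, by decide +kernel, by decide +kernel⟩,
   ⟨by decide +kernel, lev2_ok, by decide +kernel, by decide +kernel⟩,
   ⟨by decide +kernel, lev3_ok, by decide +kernel, by decide +kernel⟩,
   ⟨by decide +kernel, lev4_ok, by decide +kernel, by decide +kernel⟩,
   ⟨by decide +kernel, lev5_ok, by decide +kernel, by decide +kernel⟩,
   ⟨by decide +kernel, lev6_ok, by decide +kernel, by decide +kernel⟩,
   ⟨by decide +kernel, lev7_ok, by decide +kernel, by decide +kernel⟩,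
   trivial⟩

theorem levels_card : levelsCard levels = 9170703360 := by decide +kernel

end Cfsg.Agent.Lib.CosetTable.Y555Levels
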